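import Cfsg.Agent.H71.FldAut
import Cfsg.Agent.H816.OutEmb
import Cfsg.Agent.LieRecognition.FieldSemilinear

/-!
# S4879, row `²F₄(q)`: the group of the outer automorphisms is cyclic (helper143)

* `out_cyclic` : `Out(²F₄(q))` is cyclic;
* `cyc` : `G ⧸ T` is cyclic if `T ≅ ²F₄(q)` is normal in `G` and has trivial centralizer.
-/

set_option autoImplicit false

namespace Cfsg.Agent.H143.LB

open Cfsg Subgroup

universe u

theorem out_cyclic {K : Type} [Field K] [Fintype K] {m : ℕ} (hm : 1 ≤ m) (hK : Fintype.card K = 2 ^ (2 * m + 1)) :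
    IsCyclic (Cfsg.Out ↥(Lie.twistedF4 K (2 ^ m))) := by
  have : IsCyclic (K ≃+* K) := LieRecognition.FieldSemilinear.isCyclic_ringAut K
  let Φ : (K ≃+* K) →* MulAut ↥(Lie.twistedF4 K (2 ^ m)) :=
    MonoidHom.mk' (fun τ => S2128.fld τ (2 ^ m)) fun τ ρ => Cfsg.Agent.H71.FldAut.fldF_mul τ ρ (2 ^ m)
  let k : (K ≃+* K) →* Cfsg.Out ↥(Lie.twistedF4 K (2 ^ m)) :=
    (QuotientGroup.mk' (Cfsg.Inn ↥(Lie.twistedF4 K (2 ^ m)))).comp Φ
  have hk : Function.Surjective k := by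
    intro q
    obtain ⟨ψ, rfl⟩ := QuotientGroup.mk'_surjective _ q
    obtain ⟨w, σ, rfl⟩ := Cfsg.Agent.H71.FldAut.twF4_aut hm hK ψ
    refine ⟨σ, ?_⟩
    have h1 : QuotientGroup.mk' (Cfsg.Inn ↥(Lie.twistedF4 K (2 ^ m))) (MulAut.conj w) = 1 :=
      (QuotientGroup.eq_one_iff _).2 ⟨w, rfl⟩
    rw [map_mul, h1, one_mul]
    rfl
  exact isCyclic_of_surjective k hk

theorem out_cyclic_of_iso {T : Type u} [Group T] (h : Lie.Iso2F4 T) : IsCyclic (Cfsg.Out T) := by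
  obtain ⟨K, _, _, m, hm, hK, ⟨e⟩⟩ := h
  have h1 := out_cyclic hm hK
  obtain ⟨f⟩ := H816.OutEmb.out_congr e
  exact isCyclic_of_surjective f.symm.toMonoidHom f.symm.surjective

/-- `G ⧸ T` is cyclic -/
theorem cyc {G : Type u} [Group G] [Finite G] (T : Subgroup G) [T.Normal]
    (hC : ∀ g : G, (∀ t ∈ T, Commute g t) → g = 1) (h : Lie.Iso2F4 T) : IsCyclic (G ⧸ T) := by
  have h1 := out_cyclic_of_iso h
  obtain ⟨φ, hφ⟩ := H816.OutEmb.exists_hom T (fun g hg => by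
    rw [hC g fun t ht => (mem_centralizer_iff.1 hg t ht).symm]
    exact one_mem _)
  have h2 : IsCyclic (G ⧸ φ.ker) :=
    isCyclic_of_injective (QuotientGroup.kerLift φ) (QuotientGroup.kerLift_injective φ)
  exact isCyclic_of_surjective (QuotientGroup.quotientMulEquivOfEq hφ).toMonoidHom
    (QuotientGroup.quotientMulEquivOfEq hφ).surjective

end Cfsg.Agent.H143.LB
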