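import Cfsg.Agent.H638.PQ.TwFMF
import Cfsg.Agent.H355.TF.Row
import Cfsg.Agent.FixBN.Split

/-!
# S4879, row `²F₄(q)`: three invariant members of the principal `11`-block (helper143)

* `exists_map_par` : an automorphism maps a maximal parabolic subgroup to a conjugate;
* `inv_of_mf` : the constituents of a multiplicity free permutation character with different degrees are invariant;
* `three_model`, `three` : three characters in the principal `11`-block, invariant under all automorphisms.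
-/

set_option autoImplicit false
set_option linter.unusedSectionVars false

namespace Cfsg.Agent.H143.LB

open Cfsg Subgroup Cfsg.Agent.LieExceptional.BNPairCore Cfsg.Agent.H638.PQ.TwFMF Cfsg.Agent.FixBN
open Cfsg.Agent.Characters Cfsg.Agent.Characters.Core

universe u

/-! ### the parabolic subgroups -/

section par

variable {G : Type u} [Group G] [Finite G] {P : BNPair G} {s t : G} {p : ℕ} [Fact p.Prime] {U : Subgroup G}

theorem exists_conj_of_sylow (hp : IsPGroup p U) (hU : ¬ p ∣ U.index) (α : MulAut G) :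
    ∃ g : G, U.map α.toMonoidHom = U.map (MulAut.conj g).toMonoidHom := by
  have h1 : IsPGroup p (U.map α.toMonoidHom) := hp.map _
  have h2 : ¬ p ∣ (U.map α.toMonoidHom).index := by
    have := index_map_equiv U α
    rwa [show (U.map α.toMonoidHom).index = U.index from this]
  obtain ⟨g, hg⟩ := MulAction.exists_smul_eq G (hp.toSylow hU) (h1.toSylow h2)
  refine ⟨g, ?_⟩
  have h3 := congrArg (fun Q : Sylow p G => (Q : Subgroup G)) hg
  exact h3.symm

/-- an automorphism maps `P_t` to a conjugate -/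
theorem exists_map_par (hS : P.S = {t, s}) (hs : s ∈ P.S) (ht : t ∈ P.S) (hsp : Split P p U) (hU : ¬ p ∣ U.index)
    (hne : (par P hs).index ≠ (par P ht).index) (α : MulAut G) :
    ∃ g : G, (par P ht).map α.toMonoidHom = (par P ht).map (MulAut.conj g).toMonoidHom := by
  obtain ⟨g, hg⟩ := exists_conj_of_sylow hsp.isP hU α
  refine ⟨g, ?_⟩
  set β : MulAut G := (MulAut.conj g)⁻¹ * α with hβ
  have hαβ : α = MulAut.conj g * β := by rw [hβ, mul_inv_cancel_left]
  have hmul : ∀ H : Subgroup G, H.map α.toMonoidHom = (H.map β.toMonoidHom).map (MulAut.conj g).toMonoidHom := by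
    intro H
    rw [Subgroup.map_map, hαβ]
    rfl
  have hβU : U.map β.toMonoidHom = U := by
    rw [hmul] at hg
    exact Subgroup.map_injective (MulAut.conj g).injective hg
  have hβB : P.B.map β.toMonoidHom = P.B := by
    have h1 := map_equiv_normalizer_eq U β
    have h2 : normalizer (U : Set G) = P.B := hsp.normalizer_eq
    rw [hβU, h2] at h1
    exact h1
  rw [hmul]
  congr 1
  set M := (par P ht).map β.toMonoidHom with hM
  have hBM : P.B ≤ M := by
    rw [← hβB]
    exact Subgroup.map_mono (le_par ht)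
  have hidx : M.index = (par P ht).index := index_map_equiv (par P ht) β
  have hle : ∀ {x : G} (hx : x ∈ P.S), x ∈ M → par P hx ≤ M := by
    intro x hx hxM y hy
    rcases hy with hy | hy
    · exact hBM hy
    · exact mem_of_mem_C' hBM hy hxM
  have hcard : ∀ H H' : Subgroup G, H ≤ H' → H'.index = H.index → H = H' := by
    intro H H' h1 h2
    have h3 := H.card_mul_index
    have h4 := H'.card_mul_index
    rw [h2, ← h3] at h4
    exact Subgroup.eq_of_le_of_card_ge h1 (Nat.eq_of_mul_eq_mul_right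
      (Nat.pos_of_ne_zero Subgroup.index_ne_zero_of_finite) h4).le
  by_cases htM : t ∈ M
  · exact (hcard _ _ (hle ht htM) hidx).symm
  exfalso
  have hpar := eq_parabolic (P := P) hBM
  by_cases hsM : s ∈ M
  · have h1 : M ≤ par P hs := by
      rw [hpar]
      refine sup_le (le_par hs) ((Subgroup.closure_le _).2 ?_)
      rintro x ⟨hx, hxM⟩
      rw [hS] at hx
      rcases hx with rfl | rfl
      · exact absurd hxM htM
      · exact Or.inr (self_mem_C _)
    have h2 : M = par P hs := le_antisymm h1 (hle hs hsM)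
    exact hne (by rw [← h2, hidx])
  · have h1 : M ≤ P.B := by
      rw [hpar]
      refine sup_le le_rfl ((Subgroup.closure_le _).2 ?_)
      rintro x ⟨hx, hxM⟩
      rw [hS] at hx
      rcases hx with rfl | rfl
      · exact absurd hxM htM
      · exact absurd hxM hsM
    have h2 : M = par P ht := hcard _ _ (h1.trans (le_par ht)) hidx.symm
    apply not_mem_B ht
    apply h1
    rw [h2]
    exact Or.inr (self_mem_C _)

end par

/-! ### invariance -/

section inv

variable {G : Type u} [Group G] [Finite G] {P : Subgroup G}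

theorem card_fixedBy_map {α : MulAut G} {g : G} (hg : P.map α.toMonoidHom = P.map (MulAut.conj g).toMonoidHom) (t : G) :
    Nat.card (MulAction.fixedBy (G ⧸ P) (α t)) = Nat.card (MulAction.fixedBy (G ⧸ P) t) := by
  have hmem : ∀ x : G, x ∈ P ↔ g⁻¹ * α x * g ∈ P := by
    intro x
    constructor
    · intro hx
      have h1 : α x ∈ P.map (MulAut.conj g).toMonoidHom := by
        rw [← hg]
        exact ⟨x, hx, rfl⟩
      obtain ⟨y, hy, hxy⟩ := h1
      have h2 : g * y * g⁻¹ = α x := hxy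
      rw [← h2]
      have h3 : g⁻¹ * (g * y * g⁻¹) * g = y := by group
      rwa [h3]
    · intro hx
      have h1 : α x ∈ P.map α.toMonoidHom := by
        rw [hg]
        refine ⟨_, hx, ?_⟩
        show g * (g⁻¹ * α x * g) * g⁻¹ = α x
        group
      obtain ⟨y, hy, hxy⟩ := h1
      have h2 : y = x := α.injective hxy
      rwa [← h2]
  let f : G ⧸ P → G ⧸ P := Quotient.map' (fun x => α x * g) fun a b hab => by
    rw [QuotientGroup.leftRel_apply] at hab ⊢
    have h1 := (hmem _).1 hab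
    rw [map_mul, map_inv] at h1
    have h2 : (α a * g)⁻¹ * (α b * g) = g⁻¹ * ((α a)⁻¹ * α b) * g := by group
    rwa [h2]
  have hf : ∀ x : G, f (x : G ⧸ P) = ((α x * g : G) : G ⧸ P) := fun x => rfl
  have hfi : Function.Injective f := by
    intro a b
    induction a using QuotientGroup.induction_on with
    | H x =>
    induction b using QuotientGroup.induction_on with
    | H y =>
      intro hab
      rw [hf, hf, QuotientGroup.eq] at hab
      rw [QuotientGroup.eq, hmem, map_mul, map_inv]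
      have h2 : (α x * g)⁻¹ * (α y * g) = g⁻¹ * ((α x)⁻¹ * α y) * g := by group
      rwa [← h2]
  have hfb : Function.Bijective f := ⟨hfi, Finite.injective_iff_surjective.1 hfi⟩
  have hft : ∀ a : G ⧸ P, f (t • a) = α t • f a := by
    intro a
    induction a using QuotientGroup.induction_on with
    | H x =>
      show ((α (t * x) * g : G) : G ⧸ P) = ((α t * (α x * g) : G) : G ⧸ P)
      rw [map_mul, mul_assoc]
  refine (Nat.card_congr ((Equiv.ofBijective f hfb).subtypeEquiv fun a => ?_)).symm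
  show t • a = a ↔ α t • f a = f a
  rw [← hft]
  exact hfi.eq_iff.symm

/-- the composition with an automorphism -/
noncomputable def irrComp (χ : IrrCharacter G) (α : MulAut G) : IrrCharacter G :=
  ⟨(χ : G → ℂ) ∘ α, isIrr_comp α.toMonoidHom α.surjective χ.2⟩

theorem irrComp_apply (χ : IrrCharacter G) (α : MulAut G) (t : G) : (irrComp χ α : G → ℂ) t = (χ : G → ℂ) (α t) := rfl

theorem inv_of_mf {r : ℕ} {χ : Fin r → IrrCharacter G} (hX : H329.PQ.MF G (G ⧸ P) χ)
    (hd : Function.Injective fun i => charDegree (χ i : G → ℂ)) {α : MulAut G} {g : G}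
    (hg : P.map α.toMonoidHom = P.map (MulAut.conj g).toMonoidHom) (i : Fin r) (t : G) :
    (χ i : G → ℂ) (α t) = (χ i : G → ℂ) t := by
  classical
  have := Fintype.ofFinite G
  have hsum : (∑ j, (irrComp (χ j) α : G → ℂ)) = ∑ j, (χ j : G → ℂ) := by
    funext t
    rw [Finset.sum_apply, Finset.sum_apply]
    simp only [irrComp_apply]
    rw [← hX.sum, ← hX.sum, card_fixedBy_map hg]
  have hin : ∀ j, classInner (χ j : G → ℂ) (irrComp (χ i) α : G → ℂ) = 0 ∨ χ j = irrComp (χ i) α := by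
    intro j
    by_cases h : (χ j : G → ℂ) = (irrComp (χ i) α : G → ℂ)
    · exact Or.inr (Subtype.ext h)
    · exact Or.inl (classInner_irr_ne (χ j).2 (irrComp (χ i) α).2 h)
  have hex : ∃ j, χ j = irrComp (χ i) α := by
    by_contra hcon
    push Not at hcon
    have h1 : classInner (∑ j, (χ j : G → ℂ)) (irrComp (χ i) α : G → ℂ) = 0 := by
      rw [classInner_sum_left]
      exact Finset.sum_eq_zero fun j _ => (hin j).resolve_right (hcon j)
    rw [← hsum, classInner_sum_left] at h1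
    have hcomp : ∀ j, j ≠ i → classInner (irrComp (χ j) α : G → ℂ) (irrComp (χ i) α : G → ℂ) = 0 := by
      intro j hj
      refine classInner_irr_ne (irrComp (χ j) α).2 (irrComp (χ i) α).2 fun h => hj ?_
      apply hX.inj
      apply Subtype.ext
      funext x
      have h2 := congrFun h (α⁻¹ x)
      rw [irrComp_apply, irrComp_apply] at h2
      have h3 : α (α⁻¹ x) = x := α.apply_symm_apply x
      rwa [h3] at h2
    rw [Finset.sum_eq_single i (fun j _ hj => hcomp j hj) (fun h => absurd (Finset.mem_univ _) h),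
      classInner_irr_self (irrComp (χ i) α).2] at h1
    exact one_ne_zero h1
  obtain ⟨j, hj⟩ := hex
  have hdeg : charDegree (χ j : G → ℂ) = charDegree (χ i : G → ℂ) := by
    have h1 : ((charDegree (χ j : G → ℂ) : ℕ) : ℂ) = ((charDegree (χ i : G → ℂ) : ℕ) : ℂ) := by
      rw [← Blocks.Knorr.charDegree_eq (χ j).2, ← Blocks.Knorr.charDegree_eq (χ i).2, hj, irrComp_apply, map_one]
    exact_mod_cast h1
  have hji : j = i := hd hdeg
  rw [hji] at hj
  conv_rhs => rw [hj]
  rfl

end inv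

/-! ### the model -/

open Cfsg.Agent.H759.TwF Cfsg.Agent.H355.TF Cfsg.Agent.H317.PQ in
/-- `11 ∣ |²F₄(q)|` implies `11 ∣ q + 1` -/
theorem type_eleven {m : ℕ} {a : Fin 7} (h : ((11 : ℕ) : ℤ) ∣ pe (2 ^ m) (NN a)) : a = 1 := by
  obtain ⟨eA, eB, eCp, eCm, eD, eEp, eEm⟩ := pe_NN (2 ^ m)
  have key : ∀ {z : ℤ}, ((11 : ℕ) : ℤ) ∣ z → ((z : ℤ) : ZMod 11) = 0 := fun hz =>
    (ZMod.intCast_zmod_eq_zero_iff_dvd _ 11).2 hz
  generalize (2 : ℤ) ^ m = b at *
  have c1 : ∀ x : ZMod 11, 2 * x ^ 2 - 1 ≠ 0 := by decide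
  have c2 : ∀ x : ZMod 11, 2 * x ^ 2 + 2 * x + 1 ≠ 0 := by decide
  have c3 : ∀ x : ZMod 11, 2 * x ^ 2 - 2 * x + 1 ≠ 0 := by decide
  have c4 : ∀ x : ZMod 11, 4 * x ^ 4 - 2 * x ^ 2 + 1 ≠ 0 := by decide
  have c5 : ∀ x : ZMod 11, 4 * x ^ 4 + 4 * x ^ 3 + 2 * x ^ 2 + 2 * x + 1 ≠ 0 := by decide
  have c6 : ∀ x : ZMod 11, 4 * x ^ 4 - 4 * x ^ 3 + 2 * x ^ 2 - 2 * x + 1 ≠ 0 := by decide
  fin_cases a
  · exfalso
    have h1 := key (eA ▸ h)
    apply c1 (b : ZMod 11)
    unfold TA at h1
    push_cast at h1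
    exact h1
  · rfl
  · exfalso
    have h1 := key (eCp ▸ h)
    apply c2 (b : ZMod 11)
    unfold Cp at h1
    push_cast at h1
    exact h1
  · exfalso
    have h1 := key (eCm ▸ h)
    apply c3 (b : ZMod 11)
    unfold Cm at h1
    push_cast at h1
    exact h1
  · exfalso
    have h1 := key (eD ▸ h)
    apply c4 (b : ZMod 11)
    unfold DD at h1
    push_cast at h1
    exact h1
  · exfalso
    have h1 := key (eEp ▸ h)
    apply c5 (b : ZMod 11)
    unfold Ep at h1
    push_cast at h1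
    exact h1
  · exfalso
    have h1 := key (eEm ▸ h)
    apply c6 (b : ZMod 11)
    unfold Em at h1
    push_cast at h1
    exact h1

open Cfsg.Lie in
/-- the rank 5 permutation character, with the automorphisms -/
theorem exists_mf_inv {K : Type} [Field K] [Fintype K] {m : ℕ} (hm : 1 ≤ m)
    (hK : Fintype.card K = 2 ^ (2 * m + 1)) :
    ∃ (P : Subgroup ↥(twistedF4 K (2 ^ m))) (χ : Fin 5 → IrrCharacter ↥(twistedF4 K (2 ^ m))),
      H329.PQ.MF ↥(twistedF4 K (2 ^ m)) (↥(twistedF4 K (2 ^ m)) ⧸ P) χ ∧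
      (P.index : ℤ) = H355.TF.NX (2 ^ m) ∧
      (∀ i, (charDegree (χ i : ↥(twistedF4 K (2 ^ m)) → ℂ) : ℤ) = H355.TF.dd (2 ^ m) i) ∧
      Function.Injective (fun i => charDegree (χ i : ↥(twistedF4 K (2 ^ m)) → ℂ)) ∧
      ∀ α : MulAut ↥(twistedF4 K (2 ^ m)), ∃ g, P.map α.toMonoidHom = P.map (MulAut.conj g).toMonoidHom := by
  have : Fact (Nat.Prime 2) := ⟨Nat.prime_two⟩
  have hcard := Cfsg.Agent.S1068.result hK
  have hfin : Finite ↥(twistedF4 K (2 ^ m)) := by
    refine Nat.finite_of_card_ne_zero ?_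
    rw [hcard]
    have h1 : 1 < 2 ^ (2 * m + 1) := Nat.one_lt_two_pow (by omega)
    have h2 : 0 < 2 ^ (2 * m + 1) - 1 := by omega
    have h3 : 0 < (2 ^ (2 * m + 1)) ^ 4 - 1 := by
      have := Nat.one_lt_pow (n := 4) (by norm_num) h1
      omega
    positivity
  obtain ⟨P, UE, s, t, V, V', hsp, hS, hrel, nV, nV', iV, iV', cU, cT⟩ :=
    Cfsg.Agent.H740.Eight.TwFTwo.exists_pair (K := K) (m := m) hK
  have hsS : s ∈ P.S := by rw [hS]; simp
  have htS : t ∈ P.S := by rw [hS]; simp
  have hS' : P.S = {t, s} := by rw [hS, Set.pair_comm]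
  have hqs := Cfsg.Agent.H740.Eight.HeckeDeg.q_eq hsp hsS nV
  have hqt := Cfsg.Agent.H740.Eight.HeckeDeg.q_eq hsp htS nV'
  rw [iV] at hqs
  rw [iV'] at hqt
  set n : ℕ := 2 ^ (2 * m + 1) with hn
  have hn1 : 8 ≤ n := by
    rw [hn]
    calc 8 = 2 ^ 3 := by norm_num
      _ ≤ 2 ^ (2 * m + 1) := Nat.pow_le_pow_right (by norm_num) (by omega)
  have hst : t ≠ s := by
    rintro rfl
    rw [hqs] at hqt
    nlinarith
  have hB := Cfsg.Agent.H740.Eight.TwFTwo.card_B hsp
  rw [cU, cT] at hB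
  obtain ⟨k, hk⟩ : ∃ k, n = k + 1 := ⟨n - 1, by omega⟩
  have h5 : n ^ 4 - 1 = k * ((1 + n) * (1 + n ^ 2)) := by
    have : k * ((1 + n) * (1 + n ^ 2)) + 1 = n ^ 4 := by rw [hk]; ring
    omega
  have h6 : n - 1 = k := by omega
  have hN : Nat.card (↥(twistedF4 K (2 ^ m)) ⧸ P.B) = (1 + n) * (1 + n ^ 2) * (1 + n ^ 3) * (1 + n ^ 6) := by
    have h1 := P.B.card_mul_index
    rw [hB, hcard] at h1
    have h3 : P.B.index = (1 + n) * (1 + n ^ 2) * (1 + n ^ 3) * (1 + n ^ 6) := by
      rw [h5, h6] at h1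
      have h7 : 0 < n ^ 12 * k ^ 2 := by
        have : 0 < k := by omega
        positivity
      refine Nat.eq_of_mul_eq_mul_left h7 ?_
      rw [h1]
      ring
    rw [← h3, Subgroup.index_eq_card]
  have hUidx : ¬ 2 ∣ UE.index := by
    have h1 := UE.card_mul_index
    rw [cU, hcard, h5, h6] at h1
    have h7 : 0 < n ^ 12 := by positivity
    have h8 : UE.index = (n ^ 6 + 1) * (k * ((1 + n) * (1 + n ^ 2))) * (n ^ 3 + 1) * k := by
      refine Nat.eq_of_mul_eq_mul_left h7 ?_
      rw [h1]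
      ring
    have h2n : 2 ∣ n := by rw [hn]; exact dvd_pow_self 2 (by omega)
    have hev : ∀ j : ℕ, j ≠ 0 → 2 ∣ n ^ j := fun j hj => dvd_pow h2n hj
    have e2 := hev 2 (by norm_num)
    have e3 := hev 3 (by norm_num)
    have e6 := hev 6 (by norm_num)
    rw [h8]
    intro hd
    have hp2 := Nat.prime_two
    rcases hp2.dvd_mul.1 hd with hd | hd
    · rcases hp2.dvd_mul.1 hd with hd | hd
      · rcases hp2.dvd_mul.1 hd with hd | hd
        · omega
        · rcases hp2.dvd_mul.1 hd with hd | hd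
          · omega
          · rcases hp2.dvd_mul.1 hd with hd | hd <;> omega
      · omega
    · omega
  set w : ℝ := 2 ^ m with hw
  have hnw : (n : ℝ) = 2 * w ^ 2 := by
    rw [hn, hw]
    push_cast
    rw [← pow_mul, pow_succ, mul_comm m 2]
    ring
  have hw2 : 2 ≤ w := by
    rw [hw]
    calc (2 : ℝ) = 2 ^ 1 := by norm_num
      _ ≤ 2 ^ m := pow_le_pow_right₀ (by norm_num) hm
  obtain ⟨χ, h1, h2⟩ := mf_of_oct (P := P) (s := t) (t := s) hS' hst hrel htS hw2
    (by rw [hqt]; push_cast; rw [hnw]; ring) (by rw [hqs, hnw])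
    (by rw [hN]; push_cast; rw [hnw]; ring)
  have hft : Fintype (↥(twistedF4 K (2 ^ m)) ⧸ P.B) := Fintype.ofFinite _
  have hidx := index_par (P := P) htS
  have hidxs := index_par (P := P) hsS
  rw [hqt, hN] at hidx
  rw [hqs, hN] at hidxs
  have hdw : ∀ i, ((H355.TF.dd (2 ^ m) i : ℤ) : ℝ) = dd w i := by
    intro i
    fin_cases i
    · simp [H355.TF.dd, dd]
    · simp only [H355.TF.dd, H355.TF.d1, H355.TF.DD, H355.TF.Ep, H355.TF.Em, dd, hw, Fin.mk_one,
        Matrix.cons_val_one, Matrix.cons_val_zero]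
      push_cast
      ring
    · simp only [H355.TF.dd, H355.TF.d2, H355.TF.TB, H355.TF.Cm, H355.TF.DD, H355.TF.Ep, dd, hw,
        Fin.reduceFinMk, Matrix.cons_val]
      push_cast
      ring
    · simp only [H355.TF.dd, H355.TF.d3, H355.TF.TB, H355.TF.Cp, H355.TF.DD, H355.TF.Em, dd, hw,
        Fin.reduceFinMk, Matrix.cons_val]
      push_cast
      ring
    · simp only [H355.TF.dd, H355.TF.d4, H355.TF.Cp, H355.TF.Cm, H355.TF.Ep, H355.TF.Em, dd, hw,
        Fin.reduceFinMk, Matrix.cons_val]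
      push_cast
      ring
  refine ⟨par P htS, χ, h1, ?_, ?_, ?_, exists_map_par hS' hsS htS hsp hUidx ?_⟩
  · have h3 : (par P htS).index = (n + 1) * (n ^ 3 + 1) * (n ^ 6 + 1) := by
      have h4 : 0 < 1 + n ^ 2 := by positivity
      refine Nat.eq_of_mul_eq_mul_right h4 ?_
      rw [hidx]
      ring
    rw [h3, hn]
    unfold H355.TF.NX H355.TF.TB H355.TF.Cp H355.TF.Cm H355.TF.DD H355.TF.Ep H355.TF.Em
    push_cast
    have e : (2 : ℤ) ^ (2 * m + 1) = 2 * ((2 : ℤ) ^ m) ^ 2 := by rw [← pow_mul, pow_succ, mul_comm m 2]; ring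
    rw [e]
    ring
  · intro i
    have h3 := h2 i
    rw [← hdw] at h3
    exact_mod_cast h3
  · intro i j hij
    have h3 : dd w i = dd w j := by
      rw [← h2, ← h2]
      exact_mod_cast hij
    have hm := dd_mono hw2
    fin_cases i <;> fin_cases j <;> simp only [Fin.zero_eta, Fin.mk_one, Fin.reduceFinMk] at h3 ⊢ <;> linarith
  · intro he
    rw [he] at hidxs
    have h9 : 0 < (par P htS).index := Nat.pos_of_ne_zero Subgroup.index_ne_zero_of_finite
    have h10 := Nat.eq_of_mul_eq_mul_left h9 (hidx.trans hidxs.symm)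
    have h11 : n ^ 2 = n := by omega
    nlinarith

open Cfsg.Lie Cfsg.Agent.H759.TwF Cfsg.Agent.H355.TF in
/-- **Three invariant members of the principal `11`-block, at the model.** -/
theorem three_model {K : Type} [Field K] [Fintype K] {m : ℕ} (hm : 1 ≤ m) (hK : Fintype.card K = 2 ^ (2 * m + 1))
    (h11 : 11 ∣ Nat.card ↥(twistedF4 K (2 ^ m))) :
    ∃ θ : Fin 3 → IrrCharacter ↥(twistedF4 K (2 ^ m)), Function.Injective θ ∧
      (∀ i, θ i ∈ H317.PQ.B0 11 ↥(twistedF4 K (2 ^ m))) ∧
      ∀ i (α : MulAut ↥(twistedF4 K (2 ^ m))) (t : ↥(twistedF4 K (2 ^ m))),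
        (θ i : ↥(twistedF4 K (2 ^ m)) → ℂ) (α t) = (θ i : ↥(twistedF4 K (2 ^ m)) → ℂ) t := by
  classical
  have hp : Nat.Prime 11 := by norm_num
  have hfin : Finite ↥(twistedF4 K (2 ^ m)) := inferInstance
  obtain ⟨P, χ, hX, hN, hd, hinj, hP⟩ := exists_mf_inv hm hK
  obtain ⟨a, ha⟩ := exists_type hK hp (by norm_num) h11
  have ha1 := type_eleven ha
  subst ha1
  -- the trivial character
  obtain ⟨i, hi⟩ := exists_trivial hX
  have hi0 : i = 0 := by
    by_contra h0
    have h1 := even_dd hm i h0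
    rw [← hd i, hi] at h1
    have h2 : charDegree (fun _ : ↥(Lie.twistedF4 K (2 ^ m)) => (1 : ℂ)) = 1 := by
      unfold charDegree
      simp
    rw [h2] at h1
    norm_num at h1
  subst hi0
  have h0 : χ 0 ∈ H317.PQ.B0 11 ↥(Lie.twistedF4 K (2 ^ m)) := trivial_mem hi
  have hN' : (Nat.card (↥(twistedF4 K (2 ^ m)) ⧸ P) : ℤ) = NX (2 ^ m) := by
    rw [← hN, Subgroup.index_eq_card]
  have hmem := mem_iff (p := 11) hp (by norm_num) (a := 1) (by decide) ha (by norm_num) (card_og hK) hX hN' hd h0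
  refine ⟨fun i => χ (![0, 1, 4] i), ?_, ?_, ?_⟩
  · intro i j hij
    have hdec : ∀ i j : Fin 3, (![0, 1, 4] : Fin 3 → Fin 5) i = (![0, 1, 4] : Fin 3 → Fin 5) j → i = j := by decide
    exact hdec i j (hX.inj hij)
  · intro i
    have hdec : ∀ i : Fin 3, tab 1 ((![0, 1, 4] : Fin 3 → Fin 5) i) = true := by decide
    exact (hmem _).2 (hdec i)
  · intro i α t
    obtain ⟨g, hg⟩ := hP α
    exact inv_of_mf hX hinj hg _ t

end Cfsg.Agent.H143.LB
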