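import Cfsg.Agent.H143.LB.Inv

/-!
# S4879, row `²F₄(q)`: three invariant members of the principal `11`-block, transported (helper143)

* `mem_transport` : the principal block along an isomorphism;
* `three` : three different characters in the principal `11`-block, invariant under all automorphisms.
-/

set_option autoImplicit false

namespace Cfsg.Agent.H143.LB

open Cfsg Subgroup Cfsg.Agent.Characters Cfsg.Agent.Characters.Core

universe u v

/-- **The principal block along an isomorphism.** -/
theorem mem_transport {T : Type u} {X : Type v} [Group T] [Finite T] [Group X] [Finite X] (e : T ≃* X)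
    {M : Ideal AlgInt} (θ : IrrCharacter X) (h1 : θ ∈ principalBlock M X) :
    ∃ ψ : IrrCharacter T, ψ ∈ principalBlock M T ∧ ∀ t, (ψ : T → ℂ) t = (θ : X → ℂ) (e t) := by
  refine ⟨⟨_, isIrr_comp (e : T →* X) e.surjective θ.2⟩, ?_, fun t => rfl⟩
  intro g
  have h5 := h1 (e g)
  have e1 : ∀ χ : X → ℂ, centralChar (fun x : T => χ (e x)) g = centralChar χ (e g) := by
    intro χ
    rw [Blocks.Basic.centralChar_def, Blocks.Basic.centralChar_def, map_one]
    have h6 : (Subgroup.centralizer ({g} : Set T)).index = (Subgroup.centralizer ({e g} : Set X)).index := by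
      have h7 : (Subgroup.centralizer ({e g} : Set X)).comap (e : T →* X) = Subgroup.centralizer ({g} : Set T) := by
        ext x
        rw [Subgroup.mem_comap, mem_centralizer_singleton_iff, mem_centralizer_singleton_iff]
        show e x * e g = e g * e x ↔ _
        rw [← map_mul, ← map_mul, e.injective.eq_iff]
      rw [← h7]
      exact Subgroup.index_comap_of_surjective _ e.surjective
    rw [h6]
  have e2 : centralChar (fun _ : T => (1 : ℂ)) g = centralChar (fun _ : X => (1 : ℂ)) (e g) := e1 (fun _ => 1)
  show MemLocalIdeal M (centralChar (fun _ : T => (1 : ℂ)) g - centralChar (fun x : T => (θ : X → ℂ) (e x)) g)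
  rw [e1 (θ : X → ℂ), e2]
  exact h5

/-- **Three invariant members of the principal `11`-block of `²F₄(q)`.** -/
theorem three {T : Type u} [Group T] [Finite T] (h : Lie.Iso2F4 T) (h11 : 11 ∣ Nat.card T) {M : Ideal AlgInt}
    (hM : IsPModular 11 M) :
    ∃ θ : Fin 3 → IrrCharacter T, Function.Injective θ ∧ (∀ i, θ i ∈ principalBlock M T) ∧
      ∀ i (α : MulAut T) (t : T), (θ i : T → ℂ) (α t) = (θ i : T → ℂ) t := by
  obtain ⟨K, _, _, m, hm, hK, ⟨e⟩⟩ := h
  have hfin : Finite ↥(Lie.twistedF4 K (2 ^ m)) := inferInstance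
  have h1 : 11 ∣ Nat.card ↥(Lie.twistedF4 K (2 ^ m)) := by rwa [← Nat.card_congr e.toEquiv]
  obtain ⟨θ, hinj, hmem, hinv⟩ := three_model hm hK h1
  choose ψ hψ hval using fun i => mem_transport e (θ i) (hmem i M hM)
  refine ⟨ψ, ?_, hψ, ?_⟩
  · intro i j hij
    apply hinj
    apply Subtype.ext
    funext x
    have h2 := hval i (e.symm x)
    have h3 := hval j (e.symm x)
    rw [MulEquiv.apply_symm_apply] at h2 h3
    rw [← h2, ← h3, hij]
  · intro i α t
    rw [hval, hval]
    have h2 := hinv i ((e.symm.trans α).trans e) (e t)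
    have h3 : ((e.symm.trans α).trans e) (e t) = e (α t) := by simp
    rwa [h3] at h2

end Cfsg.Agent.H143.LB
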